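import Mathlib.CategoryTheory.Abelian.SerreClass.Localization

/-!
The localization of an abelian category with respect to a class of morphisms with left and right
calculus of fractions is abelian. This follows the proof for Serre classes in Mathlib.
-/

set_option autoImplicit false
set_option linter.style.haveILetI false
set_option linter.unusedSectionVars false

universe v' v u' u

namespace Groth.Agent.LocAb

open CategoryTheory CategoryTheory.Limits

variable {C : Type u} [Category.{v} C] [Abelian C] {D : Type u'} [Category.{v'} D]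
  (L : C ⥤ D) (W : MorphismProperty C) [W.HasLeftCalculusOfFractions]
  [W.HasRightCalculusOfFractions] [L.IsLocalization W] [Preadditive D] [L.Additive]

include L W

lemma mono_map_of_mono {X Y : C} (f : X ⟶ Y) [Mono f] : Mono (L.map f) := by
  haveI := Localization.essSurj L W
  rw [Preadditive.mono_iff_cancel_zero]
  intro W₀ z hz
  obtain ⟨φ, hφ⟩ := Localization.exists_rightFraction L W ((L.objObjPreimageIso W₀).hom ≫ z)
  rw [← cancel_epi (L.map φ.s), MorphismProperty.RightFraction.map_s_comp_map] at hφ
  have h1 : L.map (φ.f ≫ f) = L.map 0 := by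
    rw [L.map_comp, ← hφ, L.map_zero, Category.assoc, Category.assoc, hz, comp_zero, comp_zero]
  obtain ⟨Z', t, ht, fac⟩ := (MorphismProperty.map_eq_iff_precomp L W _ _).mp h1
  haveI := Localization.inverts L W t ht
  haveI := Localization.inverts L W φ.s φ.hs
  have h2 : t ≫ φ.f = 0 := by
    rw [← cancel_mono f, Category.assoc, fac, comp_zero, zero_comp]
  have h3 : L.map φ.f = 0 := by
    rw [← cancel_epi (L.map t), ← L.map_comp, h2, L.map_zero, comp_zero]
  rw [h3, ← cancel_epi (inv (L.map φ.s)), IsIso.inv_hom_id_assoc, comp_zero] at hφ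
  simpa using hφ

lemma epi_map_of_epi {X Y : C} (f : X ⟶ Y) [Epi f] : Epi (L.map f) := by
  haveI := Localization.essSurj L W
  rw [Preadditive.epi_iff_cancel_zero]
  intro W₀ z hz
  obtain ⟨φ, hφ⟩ := Localization.exists_leftFraction L W (z ≫ (L.objObjPreimageIso W₀).inv)
  rw [← cancel_mono (L.map φ.s), MorphismProperty.LeftFraction.map_comp_map_s] at hφ
  have h1 : L.map (f ≫ φ.f) = L.map 0 := by
    rw [L.map_comp, ← hφ, L.map_zero, Category.assoc, reassoc_of% hz, zero_comp]
  obtain ⟨Z', t, ht, fac⟩ := (MorphismProperty.map_eq_iff_postcomp L W _ _).mp h1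
  haveI := Localization.inverts L W t ht
  haveI := Localization.inverts L W φ.s φ.hs
  have h2 : φ.f ≫ t = 0 := by
    rw [← cancel_epi f, ← Category.assoc, fac, comp_zero, zero_comp]
  have h3 : L.map φ.f = 0 := by
    rw [← cancel_mono (L.map t), ← L.map_comp, h2, L.map_zero, zero_comp]
  rw [h3, ← cancel_mono (inv (L.map φ.s)), zero_comp] at hφ
  simpa using hφ

set_option backward.isDefEq.respectTransparency false in
lemma preservesKernel {X Y : C} (f : X ⟶ Y) :
    PreservesLimit (parallelPair f 0) L := by
  haveI : Mono (L.map (kernel.ι f)) := mono_map_of_mono L W (kernel.ι f)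
  have := Localization.essSurj L W
  suffices ∀ (W₀ : D) (z : W₀ ⟶ L.obj X) (hz : z ≫ L.map f = 0),
      ∃ (l : W₀ ⟶ L.obj (kernel f)), l ≫ L.map (kernel.ι f) = z from
    preservesLimit_of_preserves_limit_cone (kernelIsKernel f)
      ((KernelFork.isLimitMapConeEquiv _ L).2
        (Fork.IsLimit.ofExistsUnique
          (fun s ↦ existsUnique_of_exists_of_unique
            (this _ _ (KernelFork.condition s))
            (fun _ _ h₁ h₂ ↦ by simpa [cancel_mono] using h₁.trans h₂.symm))))
  intro W₀ w hw
  wlog hw' : ∃ (Z : C) (hZ : W₀ = L.obj Z) (z : Z ⟶ X), w = eqToHom hZ ≫ L.map z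
      generalizing W₀
  · obtain ⟨φ, hφ⟩ := Localization.exists_rightFraction L W
      ((L.objObjPreimageIso W₀).hom ≫ w)
    rw [← cancel_epi (L.map φ.s),
      MorphismProperty.RightFraction.map_s_comp_map] at hφ
    obtain ⟨l, hl⟩ := this _ (L.map φ.f) (by
      rw [← hφ, Category.assoc, Category.assoc, hw, comp_zero, comp_zero]) ⟨_, rfl, by simp⟩
    exact ⟨(L.objObjPreimageIso W₀).inv ≫ inv (L.map φ.s) ≫ l, by simp [hl, ← hφ]⟩
  obtain ⟨Z, rfl, z, rfl⟩ := hw'
  simp only [eqToHom_refl, Category.id_comp, ← L.map_comp] at hw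
  rw [← L.map_zero, MorphismProperty.map_eq_iff_precomp L W] at hw
  obtain ⟨Z', t, ht, fac⟩ := hw
  rw [comp_zero] at fac
  have := Localization.inverts L W t ht
  rw [← Category.assoc] at fac
  exact ⟨inv (L.map t) ≫ L.map (kernel.lift _ _ fac), by simp [← Functor.map_comp]⟩

set_option backward.isDefEq.respectTransparency false in
lemma preservesCokernel {X Y : C} (f : X ⟶ Y) :
    PreservesColimit (parallelPair f 0) L := by
  haveI : Epi (L.map (cokernel.π f)) := epi_map_of_epi L W (cokernel.π f)
  have := Localization.essSurj L W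
  suffices ∀ (W₀ : D) (z : L.obj Y ⟶ W₀) (hz : L.map f ≫ z = 0),
      ∃ (l : L.obj (cokernel f) ⟶ W₀), L.map (cokernel.π f) ≫ l = z from
    preservesColimit_of_preserves_colimit_cocone (cokernelIsCokernel f)
      ((CokernelCofork.isColimitMapCoconeEquiv _ L).2
        (Cofork.IsColimit.ofExistsUnique
          (fun s ↦ existsUnique_of_exists_of_unique
            (this _ _ (CokernelCofork.condition s))
            (fun _ _ h₁ h₂ ↦ by simpa [cancel_epi] using h₁.trans h₂.symm))))
  intro W₀ w hw
  wlog hw' : ∃ (Z : C) (hZ : L.obj Z = W₀) (z : Y ⟶ Z), w = L.map z ≫ eqToHom hZ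
      generalizing W₀
  · obtain ⟨φ, hφ⟩ := Localization.exists_leftFraction L W
      (w ≫ (L.objObjPreimageIso W₀).inv)
    rw [← cancel_mono (L.map φ.s), Category.assoc,
      MorphismProperty.LeftFraction.map_comp_map_s] at hφ
    obtain ⟨l, hl⟩ := this _ (L.map φ.f) (by rw [← hφ, reassoc_of% hw, zero_comp]) ⟨_, rfl, by simp⟩
    exact ⟨l ≫ inv (L.map φ.s) ≫ (L.objObjPreimageIso W₀).hom, by simp [reassoc_of% hl, ← hφ]⟩
  obtain ⟨Z, rfl, z, rfl⟩ := hw'
  simp only [eqToHom_refl, Category.comp_id, ← L.map_comp] at hw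
  rw [← L.map_zero, MorphismProperty.map_eq_iff_postcomp L W] at hw
  obtain ⟨Z', t, ht, fac⟩ := hw
  rw [zero_comp] at fac
  rw [Category.assoc] at fac
  have := Localization.inverts L W t ht
  exact ⟨L.map (cokernel.desc _ _ fac) ≫ inv (L.map t), by simp [← L.map_comp_assoc]⟩

set_option backward.isDefEq.respectTransparency false in
lemma hasKernels : HasKernels D where
  has_limit f := by
    obtain ⟨g, ⟨e⟩⟩ :=
      (Localization.essSurj_mapArrow L W).mem_essImage (Arrow.mk f)
    have := preservesKernel L W g.hom
    have : HasLimit (parallelPair (L.map g.hom) 0) :=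
      ⟨_, (KernelFork.isLimitMapConeEquiv _ L).1
        (isLimitOfPreserves L (kernelIsKernel g.hom))⟩
    exact hasLimit_of_iso (show parallelPair (L.map g.hom) 0 ≅ _ from
      parallelPair.ext (Arrow.leftFunc.mapIso e) (Arrow.rightFunc.mapIso e))

set_option backward.isDefEq.respectTransparency false in
lemma hasCokernels : HasCokernels D where
  has_colimit f := by
    obtain ⟨g, ⟨e⟩⟩ :=
      (Localization.essSurj_mapArrow L W).mem_essImage (Arrow.mk f)
    have := preservesCokernel L W g.hom
    have : HasColimit (parallelPair (L.map g.hom) 0) :=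
      ⟨_, (CokernelCofork.isColimitMapCoconeEquiv _ L).1
        (isColimitOfPreserves L (cokernelIsCokernel g.hom))⟩
    exact hasColimit_of_iso (show _ ≅ parallelPair (L.map g.hom) 0 from
      parallelPair.ext (Arrow.leftFunc.mapIso e.symm) (Arrow.rightFunc.mapIso e.symm))

lemma isIso_map_factorThruImage {X Y : C} (f : X ⟶ Y) [Mono (L.map f)] :
    IsIso (L.map (Abelian.factorThruImage f)) := by
  have h0 : L.map (kernel.ι f) = 0 := by
    rw [← cancel_mono (L.map f), ← L.map_comp, kernel.condition, L.map_zero, zero_comp]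
  haveI := preservesCokernel L W (kernel.ι f)
  have w0 : kernel.ι f ≫ Abelian.factorThruImage f = 0 :=
    (cancel_mono (Abelian.image.ι f)).1 (by simp)
  let hc0 : IsColimit (CokernelCofork.ofπ (Abelian.factorThruImage f) w0) :=
    Abelian.epiIsCokernelOfKernel (f := Abelian.factorThruImage f)
      (KernelFork.ofι (kernel.ι f) w0)
      (KernelFork.IsLimit.ofι _ _
        (fun {Z} k hk => kernel.lift f k
          (by rw [← Abelian.image.fac f, reassoc_of% hk, zero_comp]))
        (fun k hk => kernel.lift_ι _ _ _)
        (fun k hk m hm => by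
          apply (cancel_mono (kernel.ι f)).1
          rw [kernel.lift_ι]
          exact hm))
  have hc : IsColimit (CokernelCofork.ofπ (L.map (Abelian.factorThruImage f))
      (by rw [h0, zero_comp] : L.map (kernel.ι f) ≫ L.map (Abelian.factorThruImage f) = 0)) :=
    (CokernelCofork.isColimitMapCoconeEquiv (CokernelCofork.ofπ (Abelian.factorThruImage f) w0) L).1
      (isColimitOfPreserves L hc0)
  exact CokernelCofork.IsColimit.isIso_π _ hc h0

lemma isIso_map_imageι {X Y : C} (f : X ⟶ Y) [Epi (L.map f)] :
    IsIso (L.map (Abelian.image.ι f)) := by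
  have h0 : L.map (cokernel.π f) = 0 := by
    rw [← cancel_epi (L.map f), ← L.map_comp, cokernel.condition, L.map_zero, comp_zero]
  haveI := preservesKernel L W (cokernel.π f)
  have hk : IsLimit (KernelFork.ofι (L.map (Abelian.image.ι f))
      (by rw [h0, comp_zero] : L.map (Abelian.image.ι f) ≫ L.map (cokernel.π f) = 0)) :=
    (KernelFork.isLimitMapConeEquiv (KernelFork.ofι (kernel.ι (cokernel.π f)) (kernel.condition _)) L).1
      (isLimitOfPreserves L (kernelIsKernel (cokernel.π f)))
  exact KernelFork.IsLimit.isIso_ι _ hk h0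

lemma isNormalMonoCategory : IsNormalMonoCategory D where
  normalMonoOfMono f hf := by
    obtain ⟨g, ⟨e⟩⟩ := (Localization.essSurj_mapArrow L W).mem_essImage (Arrow.mk f)
    haveI : Mono (L.map g.hom) :=
      ((MorphismProperty.monomorphisms D).arrow_mk_iso_iff e).2 (.infer_property f)
    haveI := isIso_map_factorThruImage L W g.hom
    haveI := preservesKernel L W (cokernel.π g.hom)
    have e' : Arrow.mk (L.map (Abelian.image.ι g.hom)) ≅ Arrow.mk f :=
      (Arrow.isoMk' (L.map g.hom) (L.map (Abelian.image.ι g.hom))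
        (asIso (L.map (Abelian.factorThruImage g.hom))) (Iso.refl _)
        (by simp [← L.map_comp])).symm ≪≫ e
    refine ⟨NormalMono.ofArrowIso ?_ e'⟩
    exact {
      Z := L.obj (cokernel g.hom)
      g := L.map (cokernel.π g.hom)
      w := by rw [← L.map_comp, kernel.condition, L.map_zero]
      isLimit := (KernelFork.isLimitMapConeEquiv
          (KernelFork.ofι (kernel.ι (cokernel.π g.hom)) (kernel.condition _)) L).1
        (isLimitOfPreserves L (kernelIsKernel (cokernel.π g.hom))) }

lemma isNormalEpiCategory : IsNormalEpiCategory D where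
  normalEpiOfEpi f hf := by
    obtain ⟨g, ⟨e⟩⟩ := (Localization.essSurj_mapArrow L W).mem_essImage (Arrow.mk f)
    haveI : Epi (L.map g.hom) :=
      ((MorphismProperty.epimorphisms D).arrow_mk_iso_iff e).2 (.infer_property f)
    haveI := isIso_map_imageι L W g.hom
    let n := normalEpiOfEpi (Abelian.factorThruImage g.hom)
    haveI := preservesCokernel L W n.g
    have e' : Arrow.mk (L.map (Abelian.factorThruImage g.hom)) ≅ Arrow.mk f :=
      (Arrow.isoMk' (L.map (Abelian.factorThruImage g.hom)) (L.map g.hom) (Iso.refl _)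
        (asIso (L.map (Abelian.image.ι g.hom))) (by simp [← L.map_comp])) ≪≫ e
    refine ⟨NormalEpi.ofArrowIso ?_ e'⟩
    exact {
      W := L.obj n.W
      g := L.map n.g
      w := by rw [← L.map_comp, n.w, L.map_zero]
      isColimit := (CokernelCofork.isColimitMapCoconeEquiv _ L).1
        (isColimitOfPreserves L n.isColimit) }

theorem main : Nonempty (Abelian D) ∧ PreservesFiniteLimits L ∧ PreservesFiniteColimits L := by
  haveI := Localization.essSurj L W
  haveI := L.hasFiniteProducts_of_additive_of_essSurj
  haveI := hasKernels L W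
  haveI := hasCokernels L W
  haveI := isNormalMonoCategory L W
  haveI := isNormalEpiCategory L W
  let h : Abelian D := {}
  refine ⟨⟨h⟩, ?_, ?_⟩
  · rw [((Functor.preservesFiniteLimits_tfae L).out 3 2 :)]
    intro _ _ f
    exact preservesKernel L W f
  · rw [((Functor.preservesFiniteColimits_tfae L).out 3 2 :)]
    intro _ _ f
    exact preservesCokernel L W f

end Groth.Agent.LocAb
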